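import Mathlib

/-!
Two groups generated by sets in a bijection respecting conjugation agree modulo their centres.
-/

set_option autoImplicit false

namespace Cfsg.Agent.ThreeTransp.Fi22Model

universe u v

theorem mem_center_iff_fix {C : Type u} [Group C] {T : Set C} (hT : Subgroup.closure T = ⊤) (z : C) :
    z ∈ Subgroup.center C ↔ ∀ t ∈ T, z * t * z⁻¹ = t := by
  refine ⟨fun hz t _ => mul_inv_eq_iff_eq_mul.2 (Subgroup.mem_center_iff.1 hz t).symm,
    fun h => Subgroup.mem_center_iff.2 fun g => ?_⟩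
  have hg : g ∈ Subgroup.closure T := hT ▸ Subgroup.mem_top g
  induction hg using Subgroup.closure_induction with
  | mem t ht => exact (mul_inv_eq_iff_eq_mul.1 (h t ht)).symm
  | one => rw [one_mul, mul_one]
  | mul p q _ _ hp hq => rw [mul_assoc, hq, ← mul_assoc, hp, mul_assoc]
  | inv p _ hp => exact ((show Commute p z from hp).inv_left).eq

theorem quot_center_congr {A : Type u} [Group A] {B : Type v} [Group B] {S : Set A} {R : Set B}
    (hS : Subgroup.closure S = ⊤) (hR : Subgroup.closure R = ⊤)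
    (hSi : ∀ s ∈ S, s⁻¹ = s) (hRi : ∀ r ∈ R, r⁻¹ = r) (β : A → B) (maps : ∀ s ∈ S, β s ∈ R)
    (surj : ∀ r ∈ R, ∃ s ∈ S, β s = r) (inj : ∀ s ∈ S, ∀ t ∈ S, β s = β t → s = t)
    (hconj : ∀ s ∈ S, ∀ t ∈ S, s * t * s⁻¹ ∈ S ∧ β (s * t * s⁻¹) = β s * β t * (β s)⁻¹) :
    Nonempty (A ⧸ Subgroup.center A ≃* B ⧸ Subgroup.center B) := by
  let W : Subgroup (A × B) := Subgroup.closure {p | ∃ s ∈ S, p = (s, β s)}
  have P : ∀ p ∈ W, ∀ t ∈ S, p.1 * t * p.1⁻¹ ∈ S ∧ β (p.1 * t * p.1⁻¹) = p.2 * β t * p.2⁻¹ := by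
    intro p hp
    induction hp using Subgroup.closure_induction'' with
    | mem p hp => obtain ⟨s, hs, rfl⟩ := hp; exact hconj s hs
    | inv_mem p hp =>
      obtain ⟨s, hs, rfl⟩ := hp
      rw [Prod.inv_mk, hSi s hs, hRi _ (maps s hs)]
      exact hconj s hs
    | one => exact fun t ht => ⟨by simpa using ht, by simp⟩
    | mul p q _ _ hp hq =>
      intro t ht
      obtain ⟨h1, h2⟩ := hq t ht
      obtain ⟨h3, h4⟩ := hp _ h1
      rw [show (p * q).1 * t * (p * q).1⁻¹ = p.1 * (q.1 * t * q.1⁻¹) * p.1⁻¹ by simp [mul_assoc]]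
      refine ⟨h3, ?_⟩
      rw [h4, h2]
      simp [mul_assoc]
  have sur1 : ∀ a : A, ∃ b, (a, b) ∈ W := by
    intro a
    have ha : a ∈ Subgroup.closure S := hS ▸ Subgroup.mem_top a
    induction ha using Subgroup.closure_induction with
    | mem s hs => exact ⟨β s, Subgroup.subset_closure ⟨s, hs, rfl⟩⟩
    | one => exact ⟨1, one_mem W⟩
    | mul p q _ _ hp hq =>
      obtain ⟨p', hp⟩ := hp; obtain ⟨q', hq⟩ := hq
      exact ⟨p' * q', mul_mem hp hq⟩
    | inv p _ hp => obtain ⟨p', hp⟩ := hp; exact ⟨p'⁻¹, inv_mem hp⟩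
  have sur2 : ∀ b : B, ∃ a, (a, b) ∈ W := by
    intro b
    have hb : b ∈ Subgroup.closure R := hR ▸ Subgroup.mem_top b
    induction hb using Subgroup.closure_induction with
    | mem r hr =>
      obtain ⟨s, hs, rfl⟩ := surj r hr
      exact ⟨s, Subgroup.subset_closure ⟨s, hs, rfl⟩⟩
    | one => exact ⟨1, one_mem W⟩
    | mul p q _ _ hp hq =>
      obtain ⟨p', hp⟩ := hp; obtain ⟨q', hq⟩ := hq
      exact ⟨p' * q', mul_mem hp hq⟩
    | inv p _ hp => obtain ⟨p', hp⟩ := hp; exact ⟨p'⁻¹, inv_mem hp⟩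
  let f1 : ↥W →* A ⧸ Subgroup.center A :=
    (QuotientGroup.mk' _).comp ((MonoidHom.fst A B).comp W.subtype)
  let f2 : ↥W →* B ⧸ Subgroup.center B :=
    (QuotientGroup.mk' _).comp ((MonoidHom.snd A B).comp W.subtype)
  have hk : f1.ker = f2.ker := by
    ext ⟨⟨a, b⟩, hw⟩
    rw [MonoidHom.mem_ker, MonoidHom.mem_ker]
    show (QuotientGroup.mk a : A ⧸ Subgroup.center A) = 1 ↔
      (QuotientGroup.mk b : B ⧸ Subgroup.center B) = 1
    rw [QuotientGroup.eq_one_iff, QuotientGroup.eq_one_iff, mem_center_iff_fix hS,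
      mem_center_iff_fix hR]
    constructor
    · intro h r hr
      obtain ⟨s, hs, rfl⟩ := surj r hr
      have h2 := (P _ hw s hs).2
      simp only [h s hs] at h2
      exact h2.symm
    · intro h s hs
      obtain ⟨h1, h2⟩ := P _ hw s hs
      exact inj _ h1 s hs (h2.trans (h _ (maps s hs)))
  have hs1 : Function.Surjective f1 := fun x => by
    obtain ⟨a, rfl⟩ := QuotientGroup.mk_surjective x
    obtain ⟨b, hb⟩ := sur1 a
    exact ⟨⟨_, hb⟩, rfl⟩
  have hs2 : Function.Surjective f2 := fun x => by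
    obtain ⟨b, rfl⟩ := QuotientGroup.mk_surjective x
    obtain ⟨a, ha⟩ := sur2 b
    exact ⟨⟨_, ha⟩, rfl⟩
  exact ⟨((QuotientGroup.quotientKerEquivOfSurjective f1 hs1).symm.trans
    (QuotientGroup.quotientMulEquivOfEq hk)).trans
    (QuotientGroup.quotientKerEquivOfSurjective f2 hs2)⟩

end Cfsg.Agent.ThreeTransp.Fi22Model
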