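import Cfsg.Agent.Lib.ThreeTransp.Fi22Model.Check
import Cfsg.Agent.InvChar.Coset.FiOut
import Cfsg.Agent.Lib.ThreeTransp.Fi22Model.QuotCenter
import Cfsg.Agent.Lib.ThreeTransp.Ortho3
import Cfsg.Agent.Lib.ThreeTransp.Factor.Indep
import Cfsg.Prelude.Def_FischerSpaces

/-!
The presented group Fi22 with its class of transpositions is primitive and of type M(22).
-/

set_option autoImplicit false
set_option linter.all false
set_option maxRecDepth 100000

noncomputable section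

namespace Cfsg.Agent.ThreeTransp.Fi22Model

open Cfsg.Agent.CosetCert
open Cfsg.Agent.InvChar.Coset Cfsg.Agent.InvChar.Coset.Fi22B Cfsg.Agent.InvChar.Coset.FiUnit
  Cfsg.Agent.InvChar.Coset.FiOut
open Cfsg.Agent.ThreeTransp.Factor (nb Hd mem_Hd)
open Cfsg.Agent.Forms.QuadStd Cfsg.Agent.Forms.Reflections Cfsg.Agent.Forms.Spinor

/-- The presented group. -/
abbrev Fi : Type := Cfsg.Spor.Fi22

/-- The class of transpositions. -/
def DD : Set Fi := conjugatesOf ta

/-- A number below 3510 as a point. -/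
def pnt (c : ℕ) (hc : c < 3510) : Fin table.n := ⟨c, n_eq ▸ hc⟩

/-- The point number one. -/
def p1 : Fin table.n := pnt 1 (by norm_num)

theorem dd_mem (x : Fin table.n) : dd x ∈ DD := isConj_iff.2 ⟨rp x, (dd_eq x).symm⟩

theorem mem_DD {y : Fi} (hy : y ∈ DD) : ∃ x : Fin table.n, dd x = y := by
  obtain ⟨g, rfl⟩ := isConj_iff.1 hy
  obtain ⟨x, hx⟩ := exists_point g
  exact ⟨x, hx.symm⟩

theorem grp : Cfsg.IsThreeTranspositionGroup DD := by
  refine ⟨transposition_class.1, fun g d hd => ?_, transposition_class.2.2⟩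
  obtain ⟨k, rfl⟩ := isConj_iff.1 hd
  exact isConj_iff.2 ⟨g * k, by group⟩

theorem primitive : Cfsg.IsPrimitiveUnderConj DD := by
  have htr : ∀ a ∈ DD, ∀ b ∈ DD, ∃ g : Fi, g * a * g⁻¹ = b := by
    intro a ha b hb
    obtain ⟨g, rfl⟩ := isConj_iff.1 ha
    obtain ⟨k, rfl⟩ := isConj_iff.1 hb
    exact ⟨k * g⁻¹, by group⟩
  refine ⟨htr, ⟨_, dd_mem P0, _, dd_mem p1,
    fun e => absurd (congrArg Fin.val (dd_injective e)) (by simp [P0, p1, pnt])⟩, fun B hB hblock => ?_⟩
  by_cases hs : B.Subsingleton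
  · exact Or.inl hs
  refine Or.inr ?_
  rw [Set.not_subsingleton_iff] at hs
  obtain ⟨y, hy⟩ := hs.nonempty
  obtain ⟨g, rfl⟩ := isConj_iff.1 (hB hy)
  set cj : Fi → Set Fi → Set Fi := fun h X => (fun x => h * x * h⁻¹) '' X with hcj
  have cmul : ∀ h k X, cj h (cj k X) = cj (h * k) X := fun h k X => by
    simp only [hcj, Set.image_image]
    exact Set.image_congr' fun x => by group
  have cone : ∀ X, cj 1 X = X := fun X => by simp [hcj]
  let St : Subgroup Fi :=
    { carrier := {h | cj h B = B}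
      one_mem' := cone B
      mul_mem' := fun {p q} hp hq => by
        show cj (p * q) B = B
        rw [← cmul, hq, hp]
      inv_mem' := fun {p} hp => by
        show cj p⁻¹ B = B
        conv_lhs => rw [← hp]
        rw [cmul, inv_mul_cancel, cone] }
  have hStm : ∀ h : Fi, ∀ x ∈ B, h * x * h⁻¹ ∈ B → h ∈ St := fun h x hx hhx =>
    (hblock h).resolve_right fun hd => Set.disjoint_left.1 hd ⟨x, hx, rfl⟩ hhx
  have hle : H0 ≤ St.comap (MulAut.conj g).toMonoidHom := by
    intro h hh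
    refine hStm _ _ hy ?_
    rw [MulEquiv.coe_toMonoidHom, MulAut.conj_apply,
      show g * h * g⁻¹ * (g * ta * g⁻¹) * (g * h * g⁻¹)⁻¹ = g * (h * ta * h⁻¹) * g⁻¹ by group,
      H0_conj hh]
    exact hy
  rcases eq_or_top_of_le Fi22B.checked data.gen φ (data.hom_gen Fi22B.checked) data.gen_sq
    data.gen_rel data.gen_top (H := H0) rfl orbits Fi22B.prim hle with h | h
  · exfalso
    obtain ⟨z, hz, hzne⟩ := hs.exists_ne (g * ta * g⁻¹)
    obtain ⟨k, rfl⟩ := isConj_iff.1 (hB hz)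
    refine hzne ?_
    have hk : g⁻¹ * k ∈ St.comap (MulAut.conj g).toMonoidHom := by
      refine hStm _ _ hy ?_
      rw [MulEquiv.coe_toMonoidHom, MulAut.conj_apply,
        show g * (g⁻¹ * k) * g⁻¹ * (g * ta * g⁻¹) * (g * (g⁻¹ * k) * g⁻¹)⁻¹ = k * ta * k⁻¹ by group]
      exact hz
    rw [h] at hk
    have h1 := H0_conj hk
    calc k * ta * k⁻¹ = g * (g⁻¹ * k * ta * (g⁻¹ * k)⁻¹) * g⁻¹ := by group
      _ = _ := by rw [h1]
  · refine Set.Subset.antisymm hB fun z hz => ?_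
    obtain ⟨k, hk⟩ := htr _ (hB hy) z hz
    have hk' : k ∈ St := by
      have h2 : g⁻¹ * k * g ∈ St.comap (MulAut.conj g).toMonoidHom := h ▸ Subgroup.mem_top _
      rw [Subgroup.mem_comap, MulEquiv.coe_toMonoidHom, MulAut.conj_apply] at h2
      rwa [show g * (g⁻¹ * k * g) * g⁻¹ = k by group] at h2
    rw [← show cj k B = B from hk']
    exact ⟨_, hy, hk⟩

/-! ### The orthogonal space -/

/-- The form. -/
abbrev Q6 : QuadraticForm (ZMod 3) (Fin 6 → ZMod 3) :=
  QuadraticMap.weightedSumSquares (ZMod 3) fun _ : Fin 6 => (1 : ZMod 3)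

/-- The vector of a code. -/
def vec3 (x : ℕ) : Fin 6 → ZMod 3 := fun i => (dig x i : ZMod 3)

theorem Q6_apply (v : Fin 6 → ZMod 3) :
    Q6 v = v 0 * v 0 + v 1 * v 1 + v 2 * v 2 + v 3 * v 3 + v 4 * v 4 + v 5 * v 5 := by
  rw [QuadraticMap.weightedSumSquares_apply, Fin.sum_univ_six]
  simp

theorem polar_Q6 (v w : Fin 6 → ZMod 3) : QuadraticMap.polar Q6 v w =
    2 * (v 0 * w 0 + v 1 * w 1 + v 2 * w 2 + v 3 * w 3 + v 4 * w 4 + v 5 * w 5) := by
  rw [QuadraticMap.polar, Q6_apply, Q6_apply, Q6_apply]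
  simp only [Pi.add_apply]
  ring

theorem Q6_nondeg : (QuadraticMap.polarBilin Q6).Nondegenerate := by
  have h : ∀ x, (∀ y, QuadraticMap.polar Q6 x y = 0) → x = 0 := by
    intro x hx
    funext i
    have h1 := hx (Pi.single i 1)
    rw [polar_Q6] at h1
    fin_cases i <;> simp at h1 <;>
      exact h1.resolve_left (by decide)
  exact ⟨fun x hx => h x hx, fun x hx => h x fun y => by
    rw [QuadraticMap.polar_comm]; exact hx y⟩

theorem Q6_det : Cfsg.polarGramDet (⇑Q6) = 1 := by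
  rw [Cfsg.polarGramDet, show (Matrix.of fun i j : Fin 6 =>
      QuadraticMap.polar (⇑Q6) (Pi.single i 1) (Pi.single j 1)) =
      Matrix.diagonal fun _ => (2 : ZMod 3) from ?_, Matrix.det_diagonal]
  · simp; decide
  ext i j
  rw [Matrix.of_apply, polar_Q6]
  fin_cases i <;> fin_cases j <;> simp

theorem dot3_cast (x y : ℕ) : ((dot3 x y : ℕ) : ZMod 3) = vec3 x 0 * vec3 y 0 + vec3 x 1 * vec3 y 1 +
    vec3 x 2 * vec3 y 2 + vec3 x 3 * vec3 y 3 + vec3 x 4 * vec3 y 4 + vec3 x 5 * vec3 y 5 := by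
  rw [dot3, show ∀ n, Nat.mod n 3 = n % 3 from fun _ => rfl, ZMod.natCast_mod]
  simp [vec3]

theorem Q6_vec3 {x : ℕ} (h : dot3 x x = 1) : Q6 (vec3 x) = 1 := by
  rw [Q6_apply, ← dot3_cast, h, Nat.cast_one]

theorem act_vec3 {x : ℕ} (h : dot3 x x = 1) (y : ℕ) (i : Fin 6) :
    act (reflect Q6 (vec3 x)) (vec3 y) i = (reflDig x y i : ℕ) := by
  rw [act_reflect, Q6_vec3 h, inv_one, one_mul, polar_Q6, ← dot3_cast, reflDig,
    show ∀ n, Nat.mod n 3 = n % 3 from fun _ => rfl, ZMod.natCast_mod, Nat.cast_add, Nat.cast_mul]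
  simp only [Pi.sub_apply, Pi.smul_apply, smul_eq_mul, vec3]
  rw [sub_eq_add_neg, ← neg_mul, ← neg_mul, show (-2 : ZMod 3) = 1 by decide, one_mul]

theorem sameSix_spec {f : ℕ → ℕ} {e z : ℕ} (h : sameSix f e z = true) (i : Fin 6) :
    ((f i : ℕ) : ZMod 3) = (e : ZMod 3) * vec3 z i := by
  have h1 := Nat.eq_of_beq_eq_true (scan_spec _ h i i.2)
  rw [show Nat.mod (e * dig z i) 3 = e * dig z i % 3 from rfl] at h1
  rw [h1, ZMod.natCast_mod, Nat.cast_mul, vec3]

theorem vec3_of_code (v : Fin 6 → ZMod 3) : ∃ x < 729, vec3 x = v := by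
  refine ⟨(v 0).val + 3 * (v 1).val + 9 * (v 2).val + 27 * (v 3).val + 81 * (v 4).val +
    243 * (v 5).val, ?_, funext fun i => ?_⟩
  · have := fun i => ZMod.val_lt (v i)
    have h0 := this 0; have h1 := this 1; have h2 := this 2
    have h3 := this 3; have h4 := this 4; have h5 := this 5
    omega
  · have := fun i => ZMod.val_lt (v i)
    have h0 := this 0; have h1 := this 1; have h2 := this 2
    have h3 := this 3; have h4 := this 4; have h5 := this 5
    show ((((v 0).val + 3 * (v 1).val + 9 * (v 2).val + 27 * (v 3).val + 81 * (v 4).val +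
      243 * (v 5).val) / 3 ^ (i : ℕ) % 3 : ℕ) : ZMod 3) = v i
    conv_rhs => rw [← ZMod.natCast_zmod_val (v i)]
    congr 1
    fin_cases i <;> simp only [Fin.reduceFinMk, Fin.zero_eta, Fin.mk_one, Fin.isValue] <;>
      norm_num <;> omega

/-! ### The common neighbourhood -/

/-- The indexed member. -/
def se (i : Fin 126) : Fin table.n := pnt (sp i) (by
  have h := scan_spec _ pts_lt i i.2
  simp only [Bool.and_eq_true, Nat.blt_eq] at h
  exact h.1)

theorem code_one (i : Fin 126) : dot3 (sc i) (sc i) = 1 := by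
  have h := scan_spec _ pts_lt i i.2
  simp only [Bool.and_eq_true] at h
  exact Nat.eq_of_beq_eq_true h.2

theorem ta_P0 : ta = dd P0 := ta_dd

theorem nbr_iff (x : Fin table.n) :
    dd x ∈ nb DD ta ∩ nb DD (dd p1) ↔ (x : ℕ) ∈ sPts := by
  have h := beqB_eq (scan_spec _ nbr_ok x (lt_n x))
  have h0 : (meets 0 x = true) ↔ Commute ta (dd x) := by rw [ta_P0]; exact meets_iff (x := P0)
  have h1 : (meets 1 x = true) ↔ Commute (dd p1) (dd x) :=
    meets_iff (x := pnt 1 (by norm_num))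
  have e : ∀ z : Fin table.n, dd x ≠ dd z ↔ Nat.beq (x : ℕ) z = false := fun z => by
    rw [ne_eq, dd_injective.eq_iff, Fin.ext_iff, ← Bool.not_eq_true, Nat.beq_eq]
  rw [← memB_iff (x := (x : ℕ)), ← h]
  simp only [Bool.and_eq_true, Bool.not_eq_true', h0, h1]
  have e0 : dd x ≠ ta ↔ Nat.beq (x : ℕ) 0 = false := by rw [ta_P0]; exact e P0
  have e1 : dd x ≠ dd p1 ↔ Nat.beq (x : ℕ) 1 = false := e _
  rw [← e0, ← e1]
  show (_ ∧ _ ∧ _) ∧ _ ∧ _ ∧ _ ↔ _
  exact ⟨fun ⟨⟨_, a, b⟩, _, c, d⟩ => ⟨b, d, a, c⟩,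
    fun ⟨b, d, a, c⟩ => ⟨⟨dd_mem x, a, b⟩, dd_mem x, c, d⟩⟩

theorem mem_inter {y : Fi} :
    y ∈ nb DD ta ∩ nb DD (dd p1) ↔ ∃ i : Fin 126, dd (se i) = y := by
  constructor
  · intro hy
    obtain ⟨x, rfl⟩ := mem_DD hy.1.1
    have h := (nbr_iff x).1 hy
    rw [pts_eq, List.mem_map] at h
    obtain ⟨i, hi, he⟩ := h
    exact ⟨⟨i, List.mem_range.1 hi⟩, congrArg dd (Fin.ext he)⟩
  · rintro ⟨i, rfl⟩
    refine (nbr_iff _).2 ?_
    rw [pts_eq, List.mem_map]
    exact ⟨i, List.mem_range.2 i.2, rfl⟩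

theorem se_conj (i j : Fin 126) : ∃ k : Fin 126, dd (se i) * dd (se j) * (dd (se i))⁻¹ = dd (se k) ∧
    reflect Q6 (vec3 (sc i)) * reflect Q6 (vec3 (sc j)) * (reflect Q6 (vec3 (sc i)))⁻¹ =
      reflect Q6 (vec3 (sc k)) := by
  have h := scan_spec _ (scan_spec _ line_ok i i.2) j j.2
  simp only [lineOne, List.any_eq_true, List.mem_range, Bool.and_eq_true, Bool.or_eq_true] at h
  obtain ⟨k, hk, hp, hv⟩ := h
  refine ⟨⟨k, hk⟩, ?_, ?_⟩
  · rw [conj_dd]
    refine congrArg dd (Fin.ext ?_)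
    rw [phi_dd]
    exact (Nat.eq_of_beq_eq_true hp).symm
  · rw [reflect_conj]
    have key : ∀ e : ℕ, (e : ZMod 3) ≠ 0 → sameSix (reflDig (sc i) (sc j)) e (sc k) = true →
        reflect Q6 (act (reflect Q6 (vec3 (sc i))) (vec3 (sc j))) = reflect Q6 (vec3 (sc k)) := by
      intro e he hs
      rw [show act (reflect Q6 (vec3 (sc i))) (vec3 (sc j)) = (e : ZMod 3) • vec3 (sc k) from
        funext fun t => by rw [act_vec3 (code_one i), sameSix_spec hs t]; rfl]
      exact reflect_smul _ he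
    rcases hv with hv | hv
    · exact key 1 (by decide) hv
    · exact key 2 (by decide) hv

theorem refl_inj {i j : Fin 126} (h : reflect Q6 (vec3 (sc i)) = reflect Q6 (vec3 (sc j))) :
    i = j := by
  by_contra hne
  have hs := scan_spec _ (scan_spec _ sep_ok i i.2) j j.2
  simp only [sepOne, Bool.or_eq_true, Bool.not_eq_true', Nat.beq_eq] at hs
  rcases hs with hs | hs
  · exact hne (Fin.ext hs)
  · refine absurd ?_ (Bool.not_eq_true _ ▸ hs)
    have hself : act (reflect Q6 (vec3 (sc i))) (vec3 (sc i)) = (2 : ZMod 3) • vec3 (sc i) := by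
      rw [act_reflect, Q6_vec3 (code_one i), QuadraticMap.polar_self, Q6_vec3 (code_one i)]
      funext t
      simp only [Pi.sub_apply, Pi.smul_apply, smul_eq_mul, inv_one, one_mul, nsmul_eq_mul, mul_one,
        Nat.cast_ofNat]
      generalize vec3 (sc i) t = a
      revert a; decide
    rw [h] at hself
    have hd : ∀ t < 6, reflDig (sc j) (sc i) t = Nat.mod (2 * dig (sc i) t) 3 := by
      intro t ht
      have h1 := congrFun hself ⟨t, ht⟩
      rw [act_vec3 (code_one j), Pi.smul_apply, smul_eq_mul, vec3,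
        show (2 : ZMod 3) = ((2 : ℕ) : ZMod 3) from rfl, ← Nat.cast_mul,
        ZMod.natCast_eq_natCast_iff'] at h1
      simp only at h1
      rw [show Nat.mod (2 * dig (sc i) t) 3 = 2 * dig (sc i) t % 3 from rfl, ← h1]
      exact (Nat.mod_eq_of_lt (Nat.mod_lt _ (by norm_num))).symm
    have hscan : ∀ (f : ℕ → Bool) n, (∀ t < n, f t = true) → scan f n = true := by
      intro f n
      induction n with
      | zero => exact fun _ => rfl
      | succ n ih =>
        intro hf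
        simp [scan, hf n (Nat.lt_succ_self n), ih fun t ht => hf t (Nat.lt_succ_of_lt ht)]
    exact hscan _ 6 fun t ht => by rw [hd t ht]; exact Nat.beq_refl _

theorem refl_cover {v : Fin 6 → ZMod 3} (hv : Q6 v = 1) :
    ∃ i : Fin 126, reflect Q6 v = reflect Q6 (vec3 (sc i)) := by
  obtain ⟨x, hx, rfl⟩ := vec3_of_code v
  have h1 : dot3 x x = 1 := by
    rw [Q6_apply, ← dot3_cast] at hv
    have hlt : dot3 x x < 3 := Nat.mod_lt _ (by norm_num)
    interval_cases h : dot3 x x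
    · exact absurd hv (by decide)
    · rfl
    · exact absurd hv (by decide)
  have hs := scan_spec _ cover_ok x hx
  simp only [coverOne, h1, Nat.beq_refl, Bool.not_true, Bool.false_or, List.any_eq_true,
    List.mem_range, Bool.or_eq_true] at hs
  obtain ⟨k, hk, hs⟩ := hs
  refine ⟨⟨k, hk⟩, ?_⟩
  have key : ∀ e : ℕ, (e : ZMod 3) ≠ 0 → sameSix (dig x) e (sc k) = true →
      reflect Q6 (vec3 x) = reflect Q6 (vec3 (sc k)) := fun e he h => by
    rw [show vec3 x = (e : ZMod 3) • vec3 (sc k) from funext fun t => sameSix_spec h t]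
    exact reflect_smul _ he
  rcases hs with hs | hs
  · exact key 1 (by decide) hs
  · exact key 2 (by decide) hs

theorem local_orth : Cfsg.IsProjReflectionGroupModThree
    (↥(Subgroup.closure (nb DD ta ∩ nb DD (dd p1))) ⧸
      Subgroup.center ↥(Subgroup.closure (nb DD ta ∩ nb DD (dd p1)))) 6 1 1 := by
  classical
  refine ⟨Q6, Q6_nondeg, Q6_det, ?_⟩
  set N := nb DD ta ∩ nb DD (dd p1)
  let S : Set ↥(Subgroup.closure N) := {x | (x : Fi) ∈ N}
  let R : Set ↥(Cfsg.reflectionSubgroup (⇑Q6) (1 : ZMod 3)) :=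
    {x | (x : Cfsg.isometryGroup (ZMod 3) (⇑Q6)) ∈ Cfsg.reflectionsOfNorm (⇑Q6) (1 : ZMod 3)}
  have rmem : ∀ i : Fin 126, reflect Q6 (vec3 (sc i)) ∈ Cfsg.reflectionSubgroup (⇑Q6) (1 : ZMod 3) :=
    fun i => Ortho3.reflect_mem (Q6_vec3 (code_one i))
  let rr : Fin 126 → ↥(Cfsg.reflectionSubgroup (⇑Q6) (1 : ZMod 3)) := fun i => ⟨_, rmem i⟩
  let β : ↥(Subgroup.closure N) → ↥(Cfsg.reflectionSubgroup (⇑Q6) (1 : ZMod 3)) := fun x =>
    if h : (x : Fi) ∈ N then rr (mem_inter.1 h).choose else 1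
  have idx : ∀ x ∈ S, ∃ i : Fin 126, dd (se i) = (x : Fi) ∧ β x = rr i := fun x hx =>
    ⟨(mem_inter.1 hx).choose, (mem_inter.1 hx).choose_spec, dif_pos hx⟩
  have uniq : ∀ {i j : Fin 126}, dd (se i) = dd (se j) → i = j := by
    intro i j h
    have h' : sp i = sp j := congrArg Fin.val (dd_injective h)
    by_contra hne
    have hs := scan_spec _ (scan_spec _ line_ok i i.2) i i.2
    have hn : sPts.Nodup := by decide +kernel
    rw [pts_eq] at hn
    exact hne (Fin.ext (List.inj_on_of_nodup_map hn (List.mem_range.2 i.2) (List.mem_range.2 j.2) h'))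
  refine quot_center_congr (S := S) (R := R) Subgroup.closure_closure_coe_preimage
    Subgroup.closure_closure_coe_preimage (fun x hx => ?_) (fun r hr => ?_) β (fun x hx => ?_)
    (fun r hr => ?_) (fun x hx y hy h => ?_) (fun x hx y hy => ?_)
  · exact Subtype.ext (Classes.inv grp hx.1.1)
  · obtain ⟨v, -, e⟩ := Ortho3.mem_norm.1 hr
    refine Subtype.ext ?_
    rw [InvMemClass.coe_inv, e]
    exact Ortho3.inv_reflect v
  · obtain ⟨i, -, e⟩ := idx x hx
    rw [e]
    exact Ortho3.mem_norm.2 ⟨_, Q6_vec3 (code_one i), rfl⟩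
  · obtain ⟨v, hv, e⟩ := Ortho3.mem_norm.1 hr
    obtain ⟨i, hi⟩ := refl_cover hv
    have hm : dd (se i) ∈ N := mem_inter.2 ⟨i, rfl⟩
    refine ⟨⟨_, Subgroup.subset_closure hm⟩, hm, ?_⟩
    obtain ⟨j, hj, ej⟩ := idx ⟨_, Subgroup.subset_closure hm⟩ hm
    rw [ej, uniq hj]
    exact Subtype.ext (hi.symm.trans e.symm)
  · obtain ⟨i, hi, ei⟩ := idx x hx
    obtain ⟨j, hj, ej⟩ := idx y hy
    rw [ei, ej] at h
    have := refl_inj (congrArg Subtype.val h)
    exact Subtype.ext (by rw [← hi, ← hj, this])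
  · obtain ⟨i, hi, ei⟩ := idx x hx
    obtain ⟨j, hj, ej⟩ := idx y hy
    obtain ⟨k, hk, hk'⟩ := se_conj i j
    have hm : ((x * y * x⁻¹ : ↥(Subgroup.closure N)) : Fi) = dd (se k) := by
      rw [← hk, hi, hj]; rfl
    have hS : x * y * x⁻¹ ∈ S := mem_inter.2 ⟨k, hm.symm⟩
    refine ⟨hS, ?_⟩
    obtain ⟨k', hk1, hk2⟩ := idx _ hS
    rw [hk2, uniq (hk1.trans hm), ei, ej]
    exact Subtype.ext hk'.symm

theorem local_unitary : ∃ (F : Type) (_ : Field F) (_ : Fintype F), Fintype.card F = 4 ∧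
    Nonempty (↥(Hd DD ta) ⧸ Subgroup.center ↥(Hd DD ta) ≃* Cfsg.PSU 6 F 2) := by
  haveI := finite_Fi
  refine ⟨FF, inferInstance, inferInstance, rfl, ?_⟩
  obtain ⟨f, hf, hz, hcard⟩ := exists_hom
  have hle : Hd DD ta ≤ H0 := fun y hy => by
    rw [← centralizer_ta, Subgroup.mem_centralizer_singleton_iff]
    exact (Factor.Hd_commute hy).eq.symm
  let F1 : ↥(Hd DD ta) →* PS := f.comp (Subgroup.inclusion hle)
  have hzta : (gh 0 : FiG) = ta := gh_zero_coe
  have kcases : ∀ z : ↥H0, f z = 1 → (z : FiG) = 1 ∨ (z : FiG) = ta := by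
    intro z hzk
    by_cases h1 : z = 1
    · left; rw [h1]; rfl
    right
    have a1 : (⟨z, hzk⟩ : f.ker) ≠ 1 := fun e => h1 (congrArg Subtype.val e)
    have a2 : (⟨gh 0, hz⟩ : f.ker) ≠ 1 := fun e => gh_zero_ne_one (congrArg Subtype.val e)
    obtain ⟨y, -, hu⟩ := (Nat.card_eq_two_iff' (1 : f.ker)).mp hcard
    rw [← hzta]
    exact congrArg Subtype.val (congrArg Subtype.val ((hu _ a1).trans (hu _ a2).symm))
  have hnorm : ((Hd DD ta).subgroupOf H0).Normal := by
    refine ⟨fun n hn g => ?_⟩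
    rw [Subgroup.mem_subgroupOf] at hn ⊢
    simp only [Subgroup.coe_mul, InvMemClass.coe_inv]
    have hga : (g : FiG) * ta * (g : FiG)⁻¹ = ta := H0_conj g.2
    suffices Hd DD ta ≤ (Hd DD ta).comap (MulAut.conj (g : FiG)).toMonoidHom from this hn
    refine (Subgroup.closure_le _).2 fun y hy => mem_Hd ?_
    show (g : FiG) * y * (g : FiG)⁻¹ ∈ nb DD ta
    refine ⟨grp.2.1 _ _ hy.1, fun e => hy.2.1 ?_, ?_⟩
    · exact mul_left_cancel (mul_right_cancel (e.trans hga.symm))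
    · have := (Basic.commute_conj (g := (g : FiG))).2 hy.2.2
      rwa [hga] at this
  have hsurj : Function.Surjective F1 := by
    rw [← MonoidHom.range_eq_top]
    have hr : F1.range = ((Hd DD ta).subgroupOf H0).map f := by
      ext p
      constructor
      · rintro ⟨y, rfl⟩
        exact ⟨Subgroup.inclusion hle y, Subgroup.mem_subgroupOf.2 y.2, rfl⟩
      · rintro ⟨y, hy, rfl⟩
        exact ⟨⟨_, Subgroup.mem_subgroupOf.1 hy⟩, rfl⟩
    rw [hr]
    haveI := simple_PS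
    rcases IsSimpleGroup.eq_bot_or_eq_top_of_normal _ (Subgroup.Normal.map hnorm f hf) with h | h
    · exfalso
      have hy := (mem_inter.2 ⟨⟨0, by norm_num⟩, rfl⟩ :
        dd (se ⟨0, by norm_num⟩) ∈ nb DD ta ∩ nb DD (dd p1)).1
      have h1 : f ⟨_, hle (mem_Hd hy)⟩ = 1 := by
        rw [← Subgroup.mem_bot, ← h]
        exact ⟨⟨_, hle (mem_Hd hy)⟩, Subgroup.mem_subgroupOf.2 (mem_Hd hy), rfl⟩
      rcases kcases _ h1 with e | e
      · exact Basic.ne_one grp.1 hy.1 e
      · exact hy.2.1 e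
    · exact h
  have hker : F1.ker = Subgroup.center ↥(Hd DD ta) := by
    refine le_antisymm (fun z hzk => Subgroup.mem_center_iff.2 fun g => Subtype.ext ?_)
      (fun z hzc => ?_)
    · rcases kcases _ hzk with e | e
      · rw [Subgroup.coe_mul, Subgroup.coe_mul, show (z : FiG) = 1 from e, mul_one, one_mul]
      · rw [Subgroup.coe_mul, Subgroup.coe_mul, show (z : FiG) = ta from e]
        exact (Factor.Hd_commute g.2).eq.symm
    · have : F1 z ∈ Subgroup.center PS := Subgroup.mem_center_iff.2 fun p => by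
        obtain ⟨g, rfl⟩ := hsurj p
        rw [← map_mul, ← map_mul, Subgroup.mem_center_iff.1 hzc g]
      rwa [center_PS, Subgroup.mem_bot] at this
  exact ⟨(QuotientGroup.quotientMulEquivOfEq hker.symm).trans
    (QuotientGroup.quotientKerEquivOfSurjective F1 hsurj)⟩

theorem type22 : Cfsg.IsOfTypeM22 Fi DD := by
  refine ⟨center_Fi, ta, mem_conjugatesOf_self, dd p1, dd_mem _, ?_,
    local_unitary, 1, by decide, local_orth⟩
  rw [ta_P0, ← meets_iff]
  show ¬ meets 0 1 = true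
  rw [far_ok]
  decide

end Cfsg.Agent.ThreeTransp.Fi22Model
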