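import Mathlib.Init

/-!
The common neighbours of two non-commuting transpositions of the presented group Fi22 (as points of
the coset table) and vectors of norm one in the six-dimensional orthogonal space over the field with
three elements attached to them (in base three).
-/

set_option autoImplicit false

namespace Cfsg.Agent.ThreeTransp.Fi22Model

/-- The points. -/
def sPts : List Nat :=
  [16, 26, 27, 40, 41, 42, 43, 44, 62, 63, 64, 65, 66, 88,
   89, 90, 91, 92, 120, 121, 154, 183, 193, 213, 230, 231, 235, 243,
   266, 267, 268, 276, 291, 292, 293, 298, 308, 309, 335, 336, 337, 338,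
   339, 340, 350, 369, 370, 371, 372, 379, 380, 391, 392, 393, 424, 425,
   426, 427, 428, 429, 430, 431, 432, 433, 447, 448, 472, 473, 474, 475,
   477, 488, 489, 490, 502, 539, 540, 541, 542, 543, 544, 545, 546, 547,
   549, 569, 570, 571, 601, 603, 606, 621, 676, 677, 678, 679, 680, 682,
   683, 685, 688, 717, 718, 719, 720, 827, 828, 830, 831, 833, 836, 840,
   845, 886, 887, 989, 991, 994, 996, 999, 1004, 1072, 1166, 1169, 1174, 1349]

/-- The vectors. -/
def sVecs : List Nat :=
  [243, 336, 660, 579, 280, 81, 417, 550, 523, 499, 115, 223, 307, 196,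
   256, 187, 27, 142, 106, 43, 70, 147, 145, 127, 525, 199, 201, 304,
   40, 274, 94, 112, 282, 577, 520, 309, 547, 574, 433, 595, 129, 517,
   597, 268, 289, 228, 334, 412, 277, 552, 415, 331, 226, 468, 676, 52,
   381, 352, 328, 684, 208, 354, 630, 511, 532, 345, 76, 184, 508, 655,
   118, 658, 120, 435, 711, 624, 178, 291, 571, 502, 441, 156, 318, 387,
   175, 588, 193, 379, 265, 103, 49, 678, 603, 343, 534, 424, 259, 462,
   561, 237, 235, 9, 622, 3, 1, 360, 586, 705, 667, 652, 544, 67,
   139, 79, 426, 210, 409, 301, 97, 460, 316, 669, 154, 703, 559, 220]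

end Cfsg.Agent.ThreeTransp.Fi22Model
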