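import Cfsg.Agent.InvChar.Coset.FiOutPoints
import Cfsg.Agent.Lib.ThreeTransp.Fi22Model.Data
import Cfsg.Agent.Lib.Forms.Spinor

/-!
Finite checks for the common neighbourhood of two non-commuting transpositions in the presented
group Fi22 and the orthogonal space of dimension six over the field with three elements.
-/

set_option autoImplicit false
set_option linter.all false
set_option maxRecDepth 100000
set_option Elab.async false

noncomputable section

namespace Cfsg.Agent.ThreeTransp.Fi22Model

open Cfsg.Agent.CosetCert
open Cfsg.Agent.InvChar.Coset Cfsg.Agent.InvChar.Coset.Fi22B Cfsg.Agent.InvChar.Coset.FiOut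

/-- The point of an index. -/
def sp (i : ℕ) : ℕ := nthNat sPts i

/-- The code of an index. -/
def sc (i : ℕ) : ℕ := nthNat sVecs i

/-- A digit in base three. -/
def dig (x i : ℕ) : ℕ := Nat.mod (Nat.div x (Nat.pow 3 i)) 3

/-- The standard product of two codes, modulo three. -/
def dot3 (x y : ℕ) : ℕ :=
  Nat.mod (dig x 0 * dig y 0 + dig x 1 * dig y 1 + dig x 2 * dig y 2 + dig x 3 * dig y 3 +
    dig x 4 * dig y 4 + dig x 5 * dig y 5) 3

/-- One coordinate of the image under a reflection: `y - 2 (x·y) x`. -/
def reflDig (x y i : ℕ) : ℕ := Nat.mod (dig y i + dot3 x y * dig x i) 3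

/-- Whether a coordinate function is a scalar multiple `e` of a code. -/
def sameSix (f : ℕ → ℕ) (e z : ℕ) : Bool := scan (fun i => Nat.beq (f i) (Nat.mod (e * dig z i) 3)) 6

/-- The neighbours check. -/
def nbrOne (c : ℕ) : Bool :=
  beqB (meets 0 c && (meets 1 c && (!(Nat.beq c 0) && !(Nat.beq c 1)))) (memB c sPts)

/-- The line check for one pair. -/
def lineOne (i j : ℕ) : Bool :=
  let p := table.run (dword (sp i)) (sp j)
  let f := reflDig (sc i) (sc j)
  List.any (List.range 126) fun k => Nat.beq (sp k) p && (sameSix f 1 (sc k) || sameSix f 2 (sc k))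

/-- Different indices give different reflections. -/
def sepOne (i j : ℕ) : Bool :=
  Nat.beq i j || !(sameSix (reflDig (sc j) (sc i)) 2 (sc i))

/-- Every vector of norm one is one of those given, up to sign. -/
def coverOne (x : ℕ) : Bool :=
  !(Nat.beq (dot3 x x) 1) ||
    List.any (List.range 126) fun k => sameSix (dig x) 1 (sc k) || sameSix (dig x) 2 (sc k)

theorem nbr_ok : scan nbrOne 3510 = true := by decide +kernel

theorem pts_lt : scan (fun i => Nat.blt (sp i) 3510 && Nat.beq (dot3 (sc i) (sc i)) 1) 126 = true := by
  decide +kernel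

theorem pts_eq : sPts = (List.range 126).map sp := by decide +kernel

theorem line_ok : scan (fun i => scan (lineOne i) 126) 126 = true := by decide +kernel

theorem sep_ok : scan (fun i => scan (sepOne i) 126) 126 = true := by decide +kernel

theorem cover_ok : scan coverOne 729 = true := by decide +kernel

theorem far_ok : meets 0 1 = false := by decide +kernel

end Cfsg.Agent.ThreeTransp.Fi22Model
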